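import Cfsg.Agent.H235.EvenOPlus
import Cfsg.Agent.H226.Tall.Defs
import Cfsg.Agent.LieClassical.OrthFinite

/-!
# S2927, row `PΩ₈⁺(3)` (team TALL, piece SM4)

`V = F₃⁸ = V₁ ⟂ V₂`, `z = (-1, 1)` (helper235's model). A normal elementary abelian subgroup `W ∋ z` of `C(z)` is
`⟨z⟩`: for `w ∈ W` and a long root element `θ = 1 + N ∈ C(z)` the commutator `[w, θ]` squares to `±1`; as `N ^ 2 = 0`
this forces `w θ = θ w`. The long root elements of the two blocks generate the diagonal blocks of the matrix algebra, so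
`w` is a scalar on each block.
-/

set_option autoImplicit false

namespace Cfsg.Agent.H95.Tall

open QuadraticMap Module Cfsg.Agent.LieClassical.OrthCore Cfsg.Agent.OddHalf.NI3.Bad
  Cfsg.Agent.OddHalf.NI3.Bad.Sim Cfsg.Agent.ClassicalGeometry.OddInvolutions
  Cfsg.Agent.H235.EvenOPlus Cfsg.Agent.H226.Tall

/-! ### A criterion -/

open scoped Pointwise in
/-- `Both` if the centralizer of a 2-subgroup is `⟨z⟩` -/
theorem both_of_model {K : Type*} [Group K] [Finite K] {Q₀ : Subgroup K} {z : K} (hQ : IsPGroup 2 Q₀)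
    (hC : ∀ a : K, (∀ x ∈ Q₀, x * a = a * x) → a = 1 ∨ a = z)
    (hW : ∀ W : Subgroup K, (∀ w ∈ W, w * w = 1) → z ∈ W →
      Subgroup.centralizer ({z} : Set K) ≤ Subgroup.normalizer (W : Set K) → ∀ w ∈ W, w = 1 ∨ w = z)
    (h3 : ∃ x : K, x * z = z * x ∧ x ≠ 1 ∧ x ^ 3 = 1) : Both K := by
  have hf : Fact (Nat.Prime 2) := ⟨Nat.prime_two⟩
  have key : ∀ z' : K, TwoC z' → ∃ g : K, g * z' * g⁻¹ = z := by
    rintro z' ⟨ho, S', hS'⟩
    obtain ⟨S₀, hS₀⟩ := hQ.exists_le_sylow
    obtain ⟨g, hg⟩ := MulAction.exists_smul_eq K S' S₀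
    refine ⟨g, ?_⟩
    have hcomm : ∀ x ∈ Q₀, x * (g * z' * g⁻¹) = g * z' * g⁻¹ * x := by
      intro x hx
      have h1 : x ∈ (g • S' : Sylow 2 K) := by rw [hg]; exact hS₀ hx
      have h2 : g⁻¹ * x * g ∈ (S' : Subgroup K) := by
        have h4 : x ∈ MulAut.conj g • (S' : Subgroup K) := h1
        have h5 := (Subgroup.mem_pointwise_smul_iff_inv_smul_mem.1 h4)
        have e : (MulAut.conj g)⁻¹ • x = g⁻¹ * x * g := by
          rw [← map_inv]
          change g⁻¹ * x * g⁻¹⁻¹ = _
          rw [inv_inv]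
        rwa [e] at h5
      have h3 := Subgroup.mem_centralizer_singleton_iff.1 (hS' h2)
      have h4 : g⁻¹ * x * g * z' = z' * (g⁻¹ * x * g) := h3
      calc x * (g * z' * g⁻¹) = g * (g⁻¹ * x * g * z') * g⁻¹ := by group
        _ = g * (z' * (g⁻¹ * x * g)) * g⁻¹ := by rw [h4]
        _ = g * z' * g⁻¹ * x := by group
    rcases hC (g * z' * g⁻¹) hcomm with h | h
    · exfalso
      have h1 : z' = 1 := by
        have e : z' = g⁻¹ * (g * z' * g⁻¹) * g := by group
        rw [e, h]; group
      rw [h1, orderOf_one] at ho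
      exact absurd ho (by norm_num)
    · exact h
  constructor
  · intro z' hz' _ W hWe hzW hn w hw hα
    obtain ⟨g, hg⟩ := key z' hz'
    obtain ⟨α, hα⟩ := hα
    have hw1 : w ≠ 1 := by
      intro h
      rw [h] at hα
      have h1 : z' = 1 := by
        have := congrArg α.symm hα
        rwa [MulEquiv.symm_apply_apply, map_one] at this
      have ho := hz'.1
      rw [h1, orderOf_one] at ho
      exact absurd ho (by norm_num)
    have hmem : ∀ y ∈ W, g * y * g⁻¹ ∈ W.map (MulAut.conj g).toMonoidHom := fun y hy => ⟨y, hy, rfl⟩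
    have h1 := hW (W.map (MulAut.conj g).toMonoidHom) (by
      rintro _ ⟨y, hy, rfl⟩
      rw [← map_mul, hWe y hy, map_one]) (by rw [← hg]; exact hmem z' hzW) (by
      intro c hc
      have hc' : g⁻¹ * c * g ∈ Subgroup.centralizer ({z'} : Set K) := by
        rw [Subgroup.mem_centralizer_singleton_iff] at hc ⊢
        have e : z' = g⁻¹ * z * g := by rw [← hg]; group
        rw [e]
        calc g⁻¹ * c * g * (g⁻¹ * z * g) = g⁻¹ * (c * z) * g := by group
          _ = g⁻¹ * (z * c) * g := by rw [hc]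
          _ = g⁻¹ * z * g * (g⁻¹ * c * g) := by group
      have hc2 := Subgroup.mem_normalizer_iff.1 (hn hc')
      rw [Subgroup.mem_normalizer_iff]
      intro y
      constructor
      · rintro ⟨v, hv, rfl⟩
        refine ⟨g⁻¹ * c * g * v * (g⁻¹ * c * g)⁻¹, (hc2 v).1 hv, ?_⟩
        change g * (g⁻¹ * c * g * v * (g⁻¹ * c * g)⁻¹) * g⁻¹ = c * (g * v * g⁻¹) * c⁻¹
        group
      · rintro ⟨v, hv, hv'⟩
        have hv2 : g * v * g⁻¹ = c * y * c⁻¹ := hv'
        refine ⟨g⁻¹ * y * g, (hc2 _).2 ?_, ?_⟩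
        · have e : g⁻¹ * c * g * (g⁻¹ * y * g) * (g⁻¹ * c * g)⁻¹ = v := by
            calc g⁻¹ * c * g * (g⁻¹ * y * g) * (g⁻¹ * c * g)⁻¹ = g⁻¹ * (c * y * c⁻¹) * g := by group
              _ = g⁻¹ * (g * v * g⁻¹) * g := by rw [hv2]
              _ = v := by group
          rw [e]; exact hv
        · change g * (g⁻¹ * y * g) * g⁻¹ = y
          group) (g * w * g⁻¹) (hmem w hw)
    rcases h1 with h1 | h1
    · exfalso
      apply hw1
      have e : w = g⁻¹ * (g * w * g⁻¹) * g := by group
      rw [e, h1]; group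
    · have e : w = g⁻¹ * (g * w * g⁻¹) * g := by group
      rw [e, h1, ← hg]; group
  · intro z' hz' hp
    obtain ⟨g, hg⟩ := key z' hz'
    obtain ⟨x, hx, hx1, hx3⟩ := h3
    have hmem : g⁻¹ * x * g ∈ Subgroup.centralizer ({z'} : Set K) := by
      rw [Subgroup.mem_centralizer_singleton_iff]
      have e : z' = g⁻¹ * z * g := by rw [← hg]; group
      rw [e]
      calc g⁻¹ * x * g * (g⁻¹ * z * g) = g⁻¹ * (x * z) * g := by group
        _ = g⁻¹ * (z * x) * g := by rw [hx]
        _ = g⁻¹ * z * g * (g⁻¹ * x * g) := by group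
    obtain ⟨k, hk⟩ := hp ⟨_, hmem⟩
    have hk' : (g⁻¹ * x * g) ^ 2 ^ k = 1 := congrArg Subtype.val hk
    have e1 : (g⁻¹ * x * g) ^ 3 = 1 := by
      have e2 : g⁻¹ * x * g = g⁻¹ * x * g⁻¹⁻¹ := by rw [inv_inv]
      rw [e2, conj_pow, hx3]; group
    have h4 : orderOf (g⁻¹ * x * g) ∣ 1 := by
      have h5 : Nat.gcd (2 ^ k) 3 = 1 := Nat.Coprime.pow_left k (by norm_num)
      rw [← h5]
      exact Nat.dvd_gcd (orderOf_dvd_of_pow_eq_one hk') (orderOf_dvd_of_pow_eq_one e1)
    have h6 : g⁻¹ * x * g = 1 := orderOf_eq_one_iff.1 (Nat.dvd_one.1 h4)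
    apply hx1
    have e : x = g * (g⁻¹ * x * g) * g⁻¹ := by group
    rw [e, h6]; group

/-- `Both` is invariant under isomorphisms -/
theorem both_congr {K K' : Type*} [Group K] [Group K'] (f : K ≃* K') (h : Both K) : Both K' := by
  have hmap : ∀ z : K', TwoC z → TwoC (f.symm z) := by
    rintro z ⟨ho, S, hS⟩
    refine ⟨by rw [← ho]; exact orderOf_injective f.symm.toMonoidHom f.symm.injective z, ?_⟩
    have hker : (f.toMonoidHom).ker ≤ (f.toMonoidHom).ker := le_rfl
    have hc : ∀ s, s ∈ (S.comapOfKerIsPGroup f.toMonoidHom (by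
        have h1 : (f.toMonoidHom).ker = ⊥ := (MonoidHom.ker_eq_bot_iff _).2 f.injective
        rw [h1]; exact IsPGroup.of_bot) (by
        have h2 : (f.toMonoidHom).range = ⊤ := MonoidHom.range_eq_top.2 f.surjective
        rw [h2]; exact le_top) : Sylow 2 K) → s ∈ Subgroup.centralizer ({f.symm z} : Set K) := by
      intro s hs
      have hs' : f s ∈ (S : Subgroup K') := hs
      have h3 := Subgroup.mem_centralizer_singleton_iff.1 (hS hs')
      rw [Subgroup.mem_centralizer_singleton_iff]
      apply f.injective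
      rw [map_mul, map_mul, f.apply_symm_apply]
      exact h3
    exact ⟨_, hc⟩
  have hcen : ∀ z : K', ∀ y : K, y ∈ Subgroup.centralizer ({f.symm z} : Set K) ↔
      f y ∈ Subgroup.centralizer ({z} : Set K') := by
    intro z y
    rw [Subgroup.mem_centralizer_singleton_iff, Subgroup.mem_centralizer_singleton_iff]
    constructor
    · intro h1
      have := congrArg f h1
      rwa [map_mul, map_mul, f.apply_symm_apply] at this
    · intro h1
      apply f.injective
      rw [map_mul, map_mul, f.apply_symm_apply]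
      exact h1
  let ec : ∀ z : K', ↥(Subgroup.centralizer ({f.symm z} : Set K)) ≃* ↥(Subgroup.centralizer ({z} : Set K')) :=
    fun z =>
      { toFun := fun y => ⟨f y.1, (hcen z y.1).1 y.2⟩
        invFun := fun y => ⟨f.symm y.1, (hcen z _).2 (by rw [f.apply_symm_apply]; exact y.2)⟩
        left_inv := fun y => Subtype.ext (f.symm_apply_apply _)
        right_inv := fun y => Subtype.ext (f.apply_symm_apply _)
        map_mul' := fun a b => Subtype.ext (map_mul f _ _) }
  constructor
  · intro z hz hCP W hWe hzW hn w hw hα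
    obtain ⟨α, hα⟩ := hα
    have h1 := h.1 (f.symm z) (hmap z hz) (hCP.of_equiv (ec z).symm) (W.comap f.toMonoidHom) (by
      intro y hy
      have h2 := hWe (f y) hy
      apply f.injective
      rw [map_mul, h2, map_one]) (by
      change f (f.symm z) ∈ W
      rw [f.apply_symm_apply]; exact hzW) (by
      intro c hc
      have hc2 := Subgroup.mem_normalizer_iff.1 (hn ((hcen z c).1 hc))
      rw [Subgroup.mem_normalizer_iff]
      intro y
      change f y ∈ W ↔ f (c * y * c⁻¹) ∈ W
      rw [map_mul, map_mul, map_inv]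
      exact hc2 (f y)) (f.symm w) (by
      change f (f.symm w) ∈ W
      rw [f.apply_symm_apply]; exact hw) ⟨(f.trans α).trans f.symm, by
        change f.symm (α (f (f.symm z))) = f.symm w
        rw [f.apply_symm_apply, hα]⟩
    exact f.symm.injective h1
  · intro z hz hp
    exact h.2 (f.symm z) (hmap z hz) (hp.of_equiv (ec z).symm)

/-! ### Unipotent elements -/

/-- if `N ^ 2 = N' ^ 2 = 0` and `((1 + N') (1 - N)) ^ 2 = 1` in characteristic three, then `N' = N` -/
theorem ring_U {R : Type*} [Ring R] (h3 : (3 : R) = 0) {N N' : R} (hN : N * N = 0) (hN' : N' * N' = 0)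
    (h : (1 + N') * (1 - N) * ((1 + N') * (1 - N)) = 1) : N' = N := by
  have e1 : (1 + N') * (1 - N) * (1 + N') = 1 + N := by
    have h1 : (1 - N) * (1 + N) = 1 := by linear_combination (norm := noncomm_ring) (-1) * hN
    calc (1 + N') * (1 - N) * (1 + N') = (1 + N') * (1 - N) * (1 + N') * ((1 - N) * (1 + N)) := by
          rw [h1, mul_one]
      _ = (1 + N') * (1 - N) * ((1 + N') * (1 - N)) * (1 + N) := by noncomm_ring
      _ = 1 + N := by rw [h, one_mul]
  have e2 : 2 * N' - 2 * N - N' * N - N * N' - N' * N * N' = 0 := by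
    linear_combination (norm := noncomm_ring) e1 - hN'
  have e3 : 2 * (N' * N) + N' * N * N' = 0 := by
    linear_combination (norm := noncomm_ring) (-1) * (N' * e2) + 2 * hN' - hN' * N - hN' * (N * N')
  have e4 : N' * N * N' = 0 := by
    linear_combination (norm := noncomm_ring) h3 * (N' * N * N') - e3 * N' + N' * N * hN'
  have e5 : N' * N = 0 := by
    linear_combination (norm := noncomm_ring) h3 * (N' * N) - e3 + e4
  have e6 : N * N' = 0 := by
    linear_combination (norm := noncomm_ring) h3 * (N * N') + e2 * N' - 2 * hN' + e4 + N * hN' + N' * N * hN'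
  linear_combination (norm := noncomm_ring) h3 * (N' - N) - e2 - e5 - e6 - e4

theorem ring_U' {R : Type*} [Ring R] {N N' : R} (hN : N * N = 0) (hN' : N' * N' = 0)
    (h : (1 + N') * (1 - N) * ((1 + N') * (1 - N)) = -1) :
    (1 + 1) + 2 * N' - N' * N - N * N' - N' * N * N' = 0 := by
  have e1 : (1 + N') * (1 - N) * (1 + N') = -(1 + N) := by
    have h1 : (1 - N) * (1 + N) = 1 := by linear_combination (norm := noncomm_ring) (-1) * hN
    calc (1 + N') * (1 - N) * (1 + N') = (1 + N') * (1 - N) * (1 + N') * ((1 - N) * (1 + N)) := by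
          rw [h1, mul_one]
      _ = (1 + N') * (1 - N) * ((1 + N') * (1 - N)) * (1 + N) := by noncomm_ring
      _ = -(1 + N) := by rw [h, neg_one_mul]
  linear_combination (norm := noncomm_ring) e1 - hN'

/-! ### The operators `A u w` on `V` -/

/-- the dot product -/
def dot (u v : V) : F := ∑ j, u j * v j

theorem dot_add_right (u v w : V) : dot u (v + w) = dot u v + dot u w := by
  unfold dot
  rw [← Finset.sum_add_distrib]
  exact Finset.sum_congr rfl fun j _ => mul_add _ _ _

theorem dot_smul_right (u v : V) (c : F) : dot u (c • v) = c * dot u v := by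
  unfold dot
  rw [Finset.mul_sum]
  refine Finset.sum_congr rfl fun j _ => ?_
  rw [Pi.smul_apply, smul_eq_mul]; ring

theorem dot_comm (u v : V) : dot u v = dot v u := by
  unfold dot
  exact Finset.sum_congr rfl fun j _ => mul_comm _ _

theorem dot_add_left (u v w : V) : dot (u + v) w = dot u w + dot v w := by
  rw [dot_comm, dot_add_right, dot_comm w u, dot_comm w v]

theorem dot_smul_left (u v : V) (c : F) : dot (c • u) v = c * dot u v := by
  rw [dot_comm, dot_smul_right, dot_comm v u]

theorem dot_e (x : I) (v : V) : dot (e x) v = v x := e_dot x v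

/-- `v ↦ (w·v) u - (u·v) w` -/
def A (u w : V) : V →ₗ[F] V where
  toFun v := dot w v • u - dot u v • w
  map_add' a b := by rw [dot_add_right, dot_add_right]; module
  map_smul' c a := by
    rw [dot_smul_right, dot_smul_right, RingHom.id_apply]
    module

theorem A_apply (u w v : V) : A u w v = dot w v • u - dot u v • w := rfl

theorem A_sq {u w : V} (hu : dot u u = 0) (hw : dot w w = 0) (huw : dot u w = 0) (v : V) :
    A u w (A u w v) = 0 := by
  have h1 : A u w u = 0 := by rw [A_apply, hu, dot_comm, huw]; module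
  have h2 : A u w w = 0 := by rw [A_apply, hw, huw]; module
  rw [A_apply u w v, map_sub, map_smul, map_smul, h1, h2]; module

theorem sub_eq_dot (u v : V) : polar Q u v = 2 * dot u v := polar_Q u v

/-- the long root element -/
noncomputable def th (u w : V) (hu : dot u u = 0) (huw : dot u w = 0) : V ≃ₗ[F] V :=
  siegel Q u w (by rw [Q_apply]; exact hu) (by rw [polar_Q]; exact mul_eq_zero_of_right _ huw)

theorem th_apply {u w : V} (hu : dot u u = 0) (hw : dot w w = 0) (huw : dot u w = 0) (v : V) :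
    th u w hu huw v = v + A u w v := by
  have hQw : Q w = 0 := by rw [Q_apply]; exact hw
  have h2 : (2 : F) = -1 := by decide
  rw [th, siegel_apply, hQw, sub_eq_dot, sub_eq_dot, A_apply, h2]
  module

theorem th_mem {u w : V} (hu : dot u u = 0) (huw : dot u w = 0) : th u w hu huw ∈ Om Q := by
  have hG : LieClassical.OrthTrans.Good Q :=
    LieClassical.OrthFinite.good_of_finite nondeg_Q (by rw [finrank_V]; norm_num)
  have h := siegel_mem_E (Q := Q) (u := u) (w := w) (by rw [Q_apply]; exact hu)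
    (by rw [polar_Q]; exact mul_eq_zero_of_right _ huw)
  rw [← hG.commutator_eq_E] at h
  exact h

theorem th_inv_apply {u w : V} (hu : dot u u = 0) (hw : dot w w = 0) (huw : dot u w = 0) (v : V) :
    (th u w hu huw)⁻¹ v = v - A u w v := by
  have h : th u w hu huw (v - A u w v) = v := by
    rw [th_apply hu hw huw, map_sub, A_sq hu hw huw]; module
  calc (th u w hu huw)⁻¹ v = (th u w hu huw)⁻¹ (th u w hu huw (v - A u w v)) := by rw [h]
    _ = v - A u w v := (th u w hu huw).symm_apply_apply _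

/-- the main computation -/
theorem comm_of_sq {g : V ≃ₗ[F] V} {u w : V} (hu : dot u u = 0) (hw : dot w w = 0) (huw : dot u w = 0)
    (h : (∀ v, (g * th u w hu huw * g⁻¹ * (th u w hu huw)⁻¹) ((g * th u w hu huw * g⁻¹ * (th u w hu huw)⁻¹) v) = v) ∨
      (∀ v, (g * th u w hu huw * g⁻¹ * (th u w hu huw)⁻¹) ((g * th u w hu huw * g⁻¹ * (th u w hu huw)⁻¹) v) = -v)) (v : V) :
    g (A u w v) = A u w (g v) := by
  set N : Module.End F V := A u w with hN
  set N' : Module.End F V := (g : V →ₗ[F] V) ∘ₗ (A u w) ∘ₗ (g.symm : V →ₗ[F] V) with hN'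
  have hNN : N * N = 0 := by
    refine LinearMap.ext fun v => ?_
    exact A_sq hu hw huw v
  have hNN' : N' * N' = 0 := by
    refine LinearMap.ext fun v => ?_
    change g (A u w (g.symm (g (A u w (g.symm v))))) = 0
    rw [g.symm_apply_apply, A_sq hu hw huw, map_zero]
  have hk : ∀ v, (g * th u w hu huw * g⁻¹ * (th u w hu huw)⁻¹) v = ((1 + N') * (1 - N)) v := by
    intro v
    change g (th u w hu huw (g.symm ((th u w hu huw)⁻¹ v))) = (v - A u w v) + g (A u w (g.symm (v - A u w v)))
    rw [th_inv_apply hu hw huw, th_apply hu hw huw, map_add, g.apply_symm_apply]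
  have h3 : (3 : Module.End F V) = 0 := by
    refine LinearMap.ext fun v => ?_
    change (3 : Module.End F V) v = 0
    have e1 : (3 : Module.End F V) = algebraMap F _ (3 : F) := by rw [map_ofNat]
    rw [e1, show (3 : F) = 0 by decide, map_zero]
    rfl
  rcases h with h | h
  · have h1 : (1 + N') * (1 - N) * ((1 + N') * (1 - N)) = 1 := by
      refine LinearMap.ext fun v => ?_
      have h2 := h v
      rw [hk, hk] at h2
      exact h2
    have h4 := ring_U h3 hNN hNN' h1
    have h5 := LinearMap.congr_fun h4 (g v)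
    change g (A u w (g.symm (g v))) = A u w (g v) at h5
    rwa [g.symm_apply_apply] at h5
  · exfalso
    have h1 : (1 + N') * (1 - N) * ((1 + N') * (1 - N)) = -1 := by
      refine LinearMap.ext fun v => ?_
      have h2 := h v
      rw [hk, hk] at h2
      exact h2
    have h4 := ring_U' hNN hNN' h1
    -- a common zero of `N` and `N'`
    let f : V →ₗ[F] (Fin 4 → F) :=
      { toFun := fun v => ![dot u v, dot w v, dot u (g.symm v), dot w (g.symm v)]
        map_add' := fun a b => by
          funext i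
          fin_cases i <;> simp [dot_add_right]
        map_smul' := fun c a => by
          funext i
          fin_cases i <;> simp [dot_smul_right] }
    have hker : LinearMap.ker f ≠ ⊥ := by
      apply LinearMap.ker_ne_bot_of_finrank_lt
      rw [finrank_V, finrank_fin_fun]
      norm_num
    obtain ⟨v, hv, hv0⟩ := Submodule.exists_mem_ne_zero_of_ne_bot hker
    have hfv : f v = 0 := hv
    have k0 : dot u v = 0 := congrFun hfv 0
    have k1 : dot w v = 0 := congrFun hfv 1
    have k2 : dot u (g.symm v) = 0 := congrFun hfv 2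
    have k3 : dot w (g.symm v) = 0 := congrFun hfv 3
    have n1 : N v = 0 := by
      change A u w v = 0
      rw [A_apply, k0, k1]; module
    have n2 : N' v = 0 := by
      change g (A u w (g.symm v)) = 0
      rw [A_apply, k2, k3, zero_smul, zero_smul, sub_zero, map_zero]
    have h5 := LinearMap.congr_fun h4 v
    change (v + v) + (2 : Module.End F V) (N' v) - N' (N v) - N (N' v) - N' (N (N' v)) = 0 at h5
    rw [n1, n2, map_zero, map_zero, map_zero, map_zero] at h5
    apply hv0
    have h6 : v + v = 0 := by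
      rw [← h5]; abel
    have h7 : (2 : F) • v = 0 := by rw [two_smul]; exact h6
    exact (smul_eq_zero.1 h7).resolve_left two_ne'

/-! ### Elements commuting with the long root elements of the blocks -/

/-- `g` commutes with `A u w` -/
def Cm (g : V ≃ₗ[F] V) (u w : V) : Prop := ∀ v, g (A u w v) = A u w (g v)

theorem A_add_left (u u' w v : V) : A (u + u') w v = A u w v + A u' w v := by
  rw [A_apply, A_apply, A_apply, dot_add_left]; module

theorem A_add_right (u w w' v : V) : A u (w + w') v = A u w v + A u w' v := by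
  rw [A_apply, A_apply, A_apply, dot_add_left]; module

theorem A_smul_left (u w v : V) (c : F) : A (c • u) w v = c • A u w v := by
  rw [A_apply, A_apply, dot_smul_left]; module

theorem A_smul_right (u w v : V) (c : F) : A u (c • w) v = c • A u w v := by
  rw [A_apply, A_apply, dot_smul_left]; module

theorem Cm.add_left {g : V ≃ₗ[F] V} {u u' w : V} (h : Cm g u w) (h' : Cm g u' w) : Cm g (u + u') w := by
  intro v
  rw [A_add_left, A_add_left, map_add, h v, h' v]

theorem Cm.add_right {g : V ≃ₗ[F] V} {u w w' : V} (h : Cm g u w) (h' : Cm g u w') : Cm g u (w + w') := by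
  intro v
  rw [A_add_right, A_add_right, map_add, h v, h' v]

theorem Cm.smul_left {g : V ≃ₗ[F] V} {u w : V} (h : Cm g u w) (c : F) : Cm g (c • u) w := by
  intro v
  rw [A_smul_left, A_smul_left, map_smul, h v]

theorem Cm.smul_right {g : V ≃ₗ[F] V} {u w : V} (h : Cm g u w) (c : F) : Cm g u (c • w) := by
  intro v
  rw [A_smul_right, A_smul_right, map_smul, h v]

/-- `e i + c (e k - e l)` -/
def up (b : Fin 2) (i k l : Fin 4) (c : F) : V := e (b, i) + c • (e (b, k) + (-1 : F) • e (b, l))

/-- `c e j + e k + e l` -/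
def wp (b : Fin 2) (j k l : Fin 4) (c : F) : V := c • e (b, j) + (e (b, k) + e (b, l))

theorem InB.add {b : Fin 2} {u v : V} (hu : InB b u) (hv : InB b v) : InB b (u + v) := by
  intro b' i hb
  rw [Pi.add_apply, hu b' i hb, hv b' i hb, add_zero]

theorem InB.smul {b : Fin 2} {u : V} (hu : InB b u) (c : F) : InB b (c • u) := by
  intro b' i hb
  rw [Pi.smul_apply, hu b' i hb, smul_zero]

theorem inB_up (b : Fin 2) (i k l : Fin 4) (c : F) : InB b (up b i k l c) :=
  InB.add (inB_e b i) (InB.smul (InB.add (inB_e b k) (InB.smul (inB_e b l) _)) _)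

theorem inB_wp (b : Fin 2) (j k l : Fin 4) (c : F) : InB b (wp b j k l c) :=
  InB.add (InB.smul (inB_e b j) _) (InB.add (inB_e b k) (inB_e b l))

theorem e_apply_self (b : Fin 2) (i : Fin 4) : e (b, i) (b, i) = 1 := single_apply' _

theorem e_apply_ne (b : Fin 2) {i j : Fin 4} (h : j ≠ i) : e (b, i) (b, j) = 0 :=
  Pi.single_eq_of_ne (fun h' => h (congrArg Prod.snd h')) 1

theorem dots {b : Fin 2} {i j k l : Fin 4} (hij : i ≠ j) (hik : i ≠ k) (hil : i ≠ l) (hjk : j ≠ k) (hjl : j ≠ l)
    (hkl : k ≠ l) {c d : F} (hc : c * c = 1) (hd : d * d = 1) :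
    dot (up b i k l c) (up b i k l c) = 0 ∧ dot (wp b j k l d) (wp b j k l d) = 0 ∧
      dot (up b i k l c) (wp b j k l d) = 0 := by
  have h3 : (3 : F) = 0 := by decide
  simp only [up, wp, dot_add_left, dot_add_right, dot_smul_left, dot_smul_right, dot_e,
    e_apply_self, e_apply_ne b hij, e_apply_ne b hik,
    e_apply_ne b hik.symm, e_apply_ne b hil, e_apply_ne b hil.symm, e_apply_ne b hjk, e_apply_ne b hjk.symm,
    e_apply_ne b hjl, e_apply_ne b hjl.symm, e_apply_ne b hkl, e_apply_ne b hkl.symm]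
  refine ⟨?_, ?_, ?_⟩
  · linear_combination 2 * hc + h3
  · linear_combination hd + h3
  · ring

theorem exists_kl : ∀ i j : Fin 4, i ≠ j → ∃ k l : Fin 4, i ≠ k ∧ i ≠ l ∧ j ≠ k ∧ j ≠ l ∧ k ≠ l := by decide

/-- an element commuting with the long root elements of a block commutes with all `A e_i e_j` -/
theorem cm_e {g : V ≃ₗ[F] V} {b : Fin 2} (h : ∀ u w, InB b u → InB b w → dot u u = 0 → dot w w = 0 →
    dot u w = 0 → Cm g u w) {i j : Fin 4} (hij : i ≠ j) : Cm g (e (b, i)) (e (b, j)) := by
  obtain ⟨k, l, hik, hil, hjk, hjl, hkl⟩ := exists_kl i j hij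
  have key : ∀ c d : F, c * c = 1 → d * d = 1 → Cm g (up b i k l c) (wp b j k l d) := by
    intro c d hc hd
    obtain ⟨h1, h2, h3⟩ := dots (b := b) hij hik hil hjk hjl hkl hc hd
    exact h _ _ (inB_up _ _ _ _ _) (inB_wp _ _ _ _ _) h1 h2 h3
  have h1 : (1 : F) * 1 = 1 := by decide
  have h2 : (-1 : F) * -1 = 1 := by decide
  have e1 : e (b, i) = (-1 : F) • (up b i k l 1 + up b i k l (-1)) := by
    have h3 : (-1 : F) * 2 = 1 := by decide
    have h4 : (-1 : F) • (up b i k l 1 + up b i k l (-1)) = ((-1 : F) * 2) • e (b, i) := by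
      unfold up
      module
    rw [h4, h3, one_smul]
  have e2 : e (b, j) = wp b j k l (-1) + (-1 : F) • wp b j k l 1 := by
    have h3 : (-2 : F) = 1 := by decide
    have h4 : wp b j k l (-1) + (-1 : F) • wp b j k l 1 = (-2 : F) • e (b, j) := by
      unfold wp
      module
    rw [h4, h3, one_smul]
  have k1 : ∀ d : F, d * d = 1 → Cm g (e (b, i)) (wp b j k l d) := by
    intro d hd
    rw [e1]
    exact ((key 1 d h1 hd).add_left (key (-1) d h2 hd)).smul_left _
  rw [e2]
  exact (k1 (-1) h2).add_right ((k1 1 h1).smul_right _)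

/-- an element commuting with the long root elements of the blocks is a scalar on each block -/
theorem scalar' {g : V ≃ₗ[F] V} (h : ∀ b u w, InB b u → InB b w → dot u u = 0 → dot w w = 0 →
    dot u w = 0 → Cm g u w) (v : V) (x : I) : g v x = g (e (x.1, 0)) (x.1, 0) * v x := by
  have hA : ∀ (b : Fin 2) {i j : Fin 4}, i ≠ j →
      g (e (b, i)) = g (e (b, j)) (b, j) • e (b, i) - g (e (b, j)) (b, i) • e (b, j) := by
    intro b i j hij
    have h1 := cm_e (h b) hij (e (b, j))
    have h2 : A (e (b, i)) (e (b, j)) (e (b, j)) = e (b, i) := by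
      rw [A_apply, dot_e, dot_e, e_apply_self, e_apply_ne b hij]; module
    rw [h2, A_apply, dot_e, dot_e] at h1
    exact h1
  have h1 : ∀ b i x, x ≠ (b, i) → g (e (b, i)) x = 0 := by
    intro b i x hx
    obtain ⟨j, hj, hxj⟩ := choose_j b i x hx
    have h2 := congrFun (hA b hj) x
    rw [h2, Pi.sub_apply, Pi.smul_apply, Pi.smul_apply, e, e, Pi.single_eq_of_ne hx, Pi.single_eq_of_ne hxj,
      smul_zero, smul_zero, sub_zero]
  have h2 : ∀ b i, g (e (b, i)) (b, i) = g (e (b, 0)) (b, 0) := by
    intro b i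
    by_cases hi : i = 0
    · rw [hi]
    have h3 := congrFun (hA b hi) (b, i)
    rw [h3, Pi.sub_apply, Pi.smul_apply, Pi.smul_apply, e_apply_self, e_apply_ne b hi, smul_zero, sub_zero,
      smul_eq_mul, mul_one]
  have h3 : v = ∑ y, v y • e y := by
    funext y
    rw [Finset.sum_apply, Finset.sum_eq_single y]
    · rw [Pi.smul_apply, single_apply', smul_eq_mul, mul_one]
    · intro j _ hj
      rw [Pi.smul_apply, e, Pi.single_eq_of_ne (Ne.symm hj), smul_zero]
    · intro h'
      exact absurd (Finset.mem_univ y) h'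
  conv_lhs => rw [h3]
  rw [map_sum, Finset.sum_apply, Finset.sum_eq_single x]
  · rw [map_smul, Pi.smul_apply, smul_eq_mul, mul_comm]
    obtain ⟨b, i⟩ := x
    rw [h2 b i]
  · intro j _ hj
    rw [map_smul, Pi.smul_apply, h1 j.1 j.2 x (fun h' => hj h'.symm), smul_zero]
  · intro h'
    exact absurd (Finset.mem_univ x) h'

/-- such an element commutes with `S` -/
theorem comm_S {g : V ≃ₗ[F] V} {l : Fin 2 → F} (h : ∀ v x, g v x = l x.1 * v x) {s : V ≃ₗ[F] V} (hs : s ∈ S)
    (w : V) : g (s w) = s (g w) := by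
  obtain ⟨u, v, hu, hv, huv, hb, rfl⟩ := hs
  obtain ⟨b, h1, h2⟩ := (SB_iff u v).1 hb
  have key : ∀ u : V, InB b u → ∑ j, u j * g w j = l b * ∑ j, u j * w j := by
    intro u hu
    rw [Finset.mul_sum]
    refine Finset.sum_congr rfl fun j _ => ?_
    rw [h]
    by_cases hj : j.1 = b
    · rw [hj]; ring
    · have h3 : u j = 0 := hu j.1 j.2 hj
      rw [h3]; ring
  have key2 : ∀ (u : V) (x : I), InB b u → l x.1 * u x = l b * u x := by
    intro u x hu
    by_cases hx : x.1 = b
    · rw [hx]
    · have h3 : u x = 0 := hu x.1 x.2 hx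
      rw [h3, mul_zero, mul_zero]
  funext x
  rw [h, N_apply hu hv huv, N_apply hu hv huv, key u h1, key v h2, h]
  have e1 := key2 u x h1
  have e2 := key2 v x h2
  linear_combination (∑ j, u j * w j) * e1 + (∑ j, v j * w j) * e2

/-! ### The row -/

theorem zV_inB {b : Fin 2} {u : V} (hu : InB b u) : zV u = sg b • u := (inB_iff b u).1 hu

theorem dot_zV (u v : V) : dot u (zV v) = dot (zV u) v := by
  unfold dot
  refine Finset.sum_congr rfl fun j _ => ?_
  rw [zV_apply, zV_apply]; ring

theorem A_zV {b : Fin 2} {u w : V} (hu : InB b u) (hw : InB b w) (v : V) : A u w (zV v) = zV (A u w v) := by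
  rw [A_apply, A_apply, map_sub, map_smul, map_smul, dot_zV, dot_zV, zV_inB hu, zV_inB hw, dot_smul_left,
    dot_smul_left]
  module

/-- the long root element in `Ω(V)` -/
noncomputable def thO (u w : V) (hu : dot u u = 0) (huw : dot u w = 0) : ↥(Om Q) := ⟨th u w hu huw, th_mem hu huw⟩

theorem thO_comm {b : Fin 2} {u w : V} (hu : InB b u) (hw : InB b w) (h1 : dot u u = 0) (h2 : dot w w = 0)
    (h3 : dot u w = 0) : thO u w h1 h3 * zO = zO * thO u w h1 h3 := by
  apply Subtype.ext
  apply LinearEquiv.ext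
  intro v
  change th u w h1 h3 ((zO : V ≃ₗ[F] V) v) = (zO : V ≃ₗ[F] V) (th u w h1 h3 v)
  rw [zO_apply, zO_apply, th_apply h1 h2 h3, th_apply h1 h2 h3, map_add, A_zV hu hw]

theorem eq_of_W (W : Subgroup P) (hWe : ∀ w ∈ W, w * w = 1)
    (hn : Subgroup.centralizer ({pi zO} : Set P) ≤ Subgroup.normalizer (W : Set P)) (a : P) (ha : a ∈ W) :
    a = 1 ∨ a = pi zO := by
  obtain ⟨g, rfl⟩ := QuotientGroup.mk'_surjective (Subgroup.center ↥(Om Q)) a
  change pi g = 1 ∨ pi g = pi zO
  change pi g ∈ W at ha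
  have hcm : ∀ b u w, InB b u → InB b w → dot u u = 0 → dot w w = 0 → dot u w = 0 →
      Cm (g : V ≃ₗ[F] V) u w := by
    intro b u w hu hw h1 h2 h3
    have hc : pi (thO u w h1 h3) ∈ Subgroup.centralizer ({pi zO} : Set P) := by
      rw [Subgroup.mem_centralizer_singleton_iff, ← map_mul, ← map_mul, thO_comm hu hw h1 h2 h3]
    have h4 : pi (thO u w h1 h3) * (pi g)⁻¹ * (pi (thO u w h1 h3))⁻¹ ∈ W :=
      (Subgroup.mem_normalizer_iff.1 (hn hc) _).1 (W.inv_mem ha)
    have h5 := hWe _ (W.mul_mem ha h4)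
    have h6 : pi ((g * thO u w h1 h3 * g⁻¹ * (thO u w h1 h3)⁻¹) * (g * thO u w h1 h3 * g⁻¹ * (thO u w h1 h3)⁻¹)) = 1 := by
      rw [← h5]
      simp only [map_mul, map_inv, mul_assoc]
    apply comm_of_sq h1 h2 h3
    rcases (mem_center _).1 (pi_eq_one.1 h6) with h7 | h7
    · left
      intro v
      exact congrArg (fun k : ↥(Om Q) => (k : V ≃ₗ[F] V) v) h7
    · right
      intro v
      exact congrArg (fun k : ↥(Om Q) => (k : V ≃ₗ[F] V) v) h7
  have hs := scalar' hcm
  have hs' : ∀ v x, (g : V ≃ₗ[F] V) v x = (fun b => (g : V ≃ₗ[F] V) (e (b, 0)) (b, 0)) x.1 * v x := hs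
  apply eq_of_comm
  rintro _ ⟨y, hy, rfl⟩
  have h8 : ∀ y ∈ Qh, y * g = g * y := by
    intro y hy
    refine Subgroup.closure_induction (p := fun y _ => y * g = g * y) ?_ ?_ ?_ ?_ hy
    · intro s hs2
      apply Subtype.ext
      apply LinearEquiv.ext
      intro v
      exact (comm_S (l := fun b => (g : V ≃ₗ[F] V) (e (b, 0)) (b, 0)) hs' hs2 v).symm
    · rw [one_mul, mul_one]
    · intro a b _ _ ha hb
      rw [mul_assoc, hb, ← mul_assoc, ha, mul_assoc]
    · intro a _ ha
      have h9 : a * g = g * a := ha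
      calc a⁻¹ * g = a⁻¹ * (g * a) * a⁻¹ := by group
        _ = a⁻¹ * (a * g) * a⁻¹ := by rw [h9]
        _ = g * a⁻¹ := by group
  rw [← map_mul, h8 y hy, map_mul]

theorem exists_three : ∃ x : P, x * pi zO = pi zO * x ∧ x ≠ 1 ∧ x ^ 3 = 1 := by
  have h1 : (1 : F) * 1 = 1 := by decide
  obtain ⟨d1, d2, d3⟩ := dots (b := 0) (i := 0) (j := 1) (k := 2) (l := 3) (by decide) (by decide) (by decide)
    (by decide) (by decide) (by decide) h1 h1
  set u := up 0 0 2 3 1 with hu
  set w := wp 0 1 2 3 1 with hw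
  refine ⟨pi (thO u w d1 d3), ?_, ?_, ?_⟩
  · rw [← map_mul, ← map_mul, thO_comm (inB_up _ _ _ _ _) (inB_wp _ _ _ _ _) d1 d2 d3]
  · intro h
    rcases (mem_center _).1 (pi_eq_one.1 h) with h2 | h2
    · have h3 := congrArg (fun k : ↥(Om Q) => (k : V ≃ₗ[F] V) (e (0, 1))) h2
      change th u w d1 d3 (e (0, 1)) = e (0, 1) at h3
      rw [th_apply d1 d2 d3] at h3
      have h4 : A u w (e (0, 1)) = 0 := by
        have := congrArg (fun y => y - e (0, 1)) h3
        simpa using this
      have h5 := congrFun h4 (0, 0)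
      rw [A_apply] at h5
      revert h5
      rw [hu, hw, up, wp]
      simp only [dot_add_left, dot_smul_left, Pi.add_apply, Pi.smul_apply, smul_eq_mul, Pi.sub_apply, e,
        Pi.single_apply, Pi.zero_apply]
      decide
    · have h3 := congrArg (fun k : ↥(Om Q) => (k : V ≃ₗ[F] V) (e (1, 0))) h2
      change th u w d1 d3 (e (1, 0)) = -e (1, 0) at h3
      rw [th_apply d1 d2 d3] at h3
      have h5 := congrFun h3 (1, 0)
      rw [A_apply] at h5
      revert h5
      rw [hu, hw, up, wp]
      simp only [dot_add_left, dot_smul_left, Pi.add_apply, Pi.smul_apply, smul_eq_mul, Pi.sub_apply, e,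
        Pi.single_apply, Pi.neg_apply]
      decide
  · rw [← map_pow]
    have h2 : thO u w d1 d3 ^ 3 = 1 := by
      apply Subtype.ext
      apply LinearEquiv.ext
      intro v
      change th u w d1 d3 (th u w d1 d3 (th u w d1 d3 v)) = v
      have h3 : (3 : F) • A u w v = 0 := by
        rw [show (3 : F) = 0 by decide, zero_smul]
      simp only [th_apply d1 d2 d3, map_add, A_sq d1 d2 d3, add_zero]
      have h4 : v + A u w v + A u w v + A u w v = v + (3 : F) • A u w v := by module
      rw [h4, h3, add_zero]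
    rw [h2, map_one]

/-- the row for the model -/
theorem both_P : Both P := by
  have := instFiniteP
  exact both_of_model isPGroup_QP (fun a ha => eq_of_comm ha) (fun W hWe _ hn a ha => eq_of_W W hWe hn a ha)
    exists_three

/-- **S2927, row `PΩ₈⁺(3)`.** -/
theorem both_o8p3 {K : Type*} [Field K] [Fintype K] (hK : Fintype.card K = 3) :
    Both (Cfsg.POmega K (Cfsg.quadFormPlus 4 K)) := by
  obtain ⟨g⟩ := Models.om8p card_F nondeg_Q finrank_V neg_Q
  let σ : K ≃+* F := (ZMod.ringEquivOfPrime K (by norm_num) hK).symm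
  obtain ⟨k⟩ := UGT.U2.Rec.Congr.nonempty_POmega (ι := Fin 4 ⊕ Fin 4) σ (Q := Cfsg.quadFormPlus 4 K)
    (Q' := Cfsg.quadFormPlus 4 F) (fun v => by simp [Cfsg.quadFormPlus, map_sum, map_mul])
  exact both_congr (g.trans k.symm) both_P

end Cfsg.Agent.H95.Tall
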